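import Groth.Agent.DefGlue.Basic
import Groth.Agent.DefAut.Rigid

/-!
# Morphisms of deformations which are isomorphisms on the closed fibre are isomorphisms
-/

set_option autoImplicit false
set_option linter.unusedSectionVars false
universe u

open CategoryTheory CategoryTheory.Limits AlgebraicGeometry IsLocalRing ArtFun TopologicalSpace

namespace Groth.Agent.HomTangent

variable {Λ k : Type u} [CommRing Λ] [Field k] [Algebra Λ k] {A : Art Λ k}

theorem bijective_of_fibre {R R' R₀ : Type u} [CommRing R] [CommRing R'] [CommRing R₀] (f : A →+* R)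
    (f' : A →+* R') (l : R →+* R') (hlf : l.comp f = f') (hf' : f'.Flat) (q : R →+* R₀) (q' : R' →+* R₀)
    (hql : q'.comp l = q) (hq : Function.Surjective q) (hk : RingHom.ker q = (maximalIdeal A).map f)
    (hk' : RingHom.ker q' = (maximalIdeal A).map f') : Function.Bijective l := by
  classical
  obtain ⟨N, hN⟩ := Groth.Agent.ArtFunLib.isNilpotent_maximalIdeal A
  have hlf' : ∀ a, l (f a) = f' a := fun a => RingHom.congr_fun hlf a
  letI : Algebra A R := f.toAlgebra
  letI : Algebra A R' := f'.toAlgebra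
  haveI : Module.Flat A R' := hf'
  haveI := Groth.Agent.TFun.free_of_flat (A := A) R'
  let L : R →ₐ[A] R' := { l with commutes' := hlf' }
  have hsm : ∀ {M : Type u} [CommRing M] [Algebra A M] (I : Ideal A) (z : M),
      z ∈ I • (⊤ : Submodule A M) ↔ z ∈ I.map (algebraMap A M) := fun {M} _ _ I z => by
    rw [Ideal.smul_top_eq_map]; rfl
  have hs : Function.Surjective L := by
    have hle : (⊤ : Submodule A R') ≤ LinearMap.range L.toLinearMap ⊔ maximalIdeal A • ⊤ := by
      intro z _
      obtain ⟨r, hr⟩ := hq (q' z)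
      rw [← add_sub_cancel (L r) z]
      refine Submodule.add_mem_sup ⟨r, rfl⟩ ((hsm _ _).2 ?_)
      rw [show algebraMap A R' = f' from rfl, ← hk', RingHom.mem_ker, map_sub, sub_eq_zero, ← hr]
      exact (RingHom.congr_fun hql r).symm
    have hpow : ∀ n, (⊤ : Submodule A R') ≤ LinearMap.range L.toLinearMap ⊔ maximalIdeal A ^ n • ⊤ := by
      intro n
      induction n with
      | zero => rw [pow_zero, Ideal.one_eq_top, Submodule.top_smul]; exact le_sup_right
      | succ n ih =>
        refine ih.trans (sup_le le_sup_left ?_)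
        refine (Submodule.smul_mono le_rfl hle).trans ?_
        rw [Submodule.smul_sup, ← Submodule.mul_smul, ← pow_succ]
        exact sup_le_sup_right Submodule.smul_le_right _
    have h1 := hpow N
    rw [hN, Submodule.bot_smul, sup_bot_eq] at h1
    intro z
    exact h1 (Submodule.mem_top (x := z))
  obtain ⟨s, hsec⟩ := Module.projective_lifting_property L.toLinearMap LinearMap.id hs
  let P : R →ₗ[A] R := LinearMap.id - s ∘ₗ L.toLinearMap
  have hP : ∀ r, L (P r) = 0 := fun r => by
    change L (r - s (L r)) = 0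
    rw [map_sub, sub_eq_zero]
    exact (LinearMap.congr_fun hsec (L r)).symm
  let K : Submodule A R := LinearMap.ker L.toLinearMap
  have hK : K ≤ maximalIdeal A • K := by
    intro r hr
    have hr' : L r = 0 := hr
    have h1 : r ∈ maximalIdeal A • (⊤ : Submodule A R) := (hsm _ _).2 (by
      rw [show algebraMap A R = f from rfl, ← hk, RingHom.mem_ker, ← hql, RingHom.comp_apply,
        show l r = 0 from hr', map_zero])
    have h2 := Submodule.mem_map_of_mem (f := P) h1
    rw [Submodule.map_smul''] at h2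
    have h3 : P r = r := by
      change r - s (L r) = r
      rw [hr', map_zero, sub_zero]
    rw [h3] at h2
    exact Submodule.smul_mono le_rfl (by rintro _ ⟨y, -, rfl⟩; exact hP y) h2
  have hK' : ∀ n, K ≤ maximalIdeal A ^ n • K := by
    intro n
    induction n with
    | zero => rw [pow_zero, Ideal.one_eq_top, Submodule.top_smul]
    | succ n ih =>
      refine hK.trans ((Submodule.smul_mono le_rfl ih).trans ?_)
      rw [← Submodule.mul_smul, ← pow_succ']
  refine ⟨(injective_iff_map_eq_zero l).2 fun r hr => ?_, hs⟩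
  have := hK' N (show r ∈ K from hr)
  rwa [hN, Submodule.bot_smul, Submodule.mem_bot] at this

variable {X : Scheme.{u}} {x : X ⟶ Spec (CommRingCat.of k)}

theorem isIso_of_fibre (ξ η : DefSch X x A) (π : ξ.total ⟶ η.total) (hf : π ≫ η.f = ξ.f) (hi : ξ.i ≫ π = η.i) :
    IsIso π := by
  have hpre : ∀ V : η.total.Opens, ξ.i ⁻¹ᵁ (π ⁻¹ᵁ V) = η.i ⁻¹ᵁ V := fun V => by
    rw [← Scheme.Hom.comp_preimage, hi]
  suffices h : MorphismProperty.isomorphisms Scheme π from h
  refine (IsZariskiLocalAtTarget.iff_of_iSup_eq_top (P := MorphismProperty.isomorphisms Scheme)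
    (fun V : η.total.affineOpens => V.1) (iSup_affineOpens_eq_top _)).2 fun V => ?_
  obtain ⟨V, hV⟩ := V
  have hiV : IsAffineOpen (η.i ⁻¹ᵁ V) := hV.preimage η.i
  have hU : IsAffineOpen (π ⁻¹ᵁ V) := DefGlue.isAffineOpen_of_i ξ (by rw [hpre]; exact hiV)
  haveI : IsAffine (V : Scheme) := hV
  rw [HasAffineProperty.iff_of_isAffine (P := MorphismProperty.isomorphisms Scheme)]
  refine ⟨hU, ?_⟩
  obtain ⟨hf1, hs1, hk1⟩ := DefAut.chart ξ hU
  obtain ⟨hf2, hs2, hk2⟩ := DefAut.chart η hV
  have hbij : Function.Bijective (π.app V) := by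
    let e := (X.presheaf.mapIso (eqToIso (hpre V).symm).op).commRingCatIsoToRingEquiv
    refine bijective_of_fibre (DefAut.structHom η V) (DefAut.structHom ξ (π ⁻¹ᵁ V)) (π.app V).hom
      (RingHom.ext fun a => ?_) hf1 (η.i.app V).hom
      ((X.presheaf.map (eqToHom (hpre V).symm).op).hom.comp (ξ.i.app (π ⁻¹ᵁ V)).hom)
      (RingHom.ext fun r => ?_) hs2 hk2 (Ideal.ext fun z => ?_)
    · change (η.total.presheaf.map _ ≫ π.app V) (η.f.appTop ((Scheme.ΓSpecIso (CommRingCat.of A)).inv a)) = _
      rw [π.naturality]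
      change ξ.total.presheaf.map _ ((η.f.appTop ≫ π.appTop) ((Scheme.ΓSpecIso (CommRingCat.of A)).inv a)) = _
      rw [← Scheme.Hom.comp_appTop, hf]
      rfl
    · have h := Scheme.Hom.congr_app hi V
      rw [Scheme.Hom.comp_app] at h
      change X.presheaf.map _ ((π.app V ≫ ξ.i.app (π ⁻¹ᵁ V)) r) = _
      rw [h]
      change (X.presheaf.map _ ≫ X.presheaf.map _) (η.i.app V r) = _
      rw [← Functor.map_comp]
      exact congr($((X.presheaf.map_id (Opposite.op (η.i ⁻¹ᵁ V)))) (η.i.app V r))
    · rw [RingHom.mem_ker, RingHom.comp_apply, ← hk1, RingHom.mem_ker]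
      exact map_eq_zero_iff _ (ConcreteCategory.bijective_of_isIso (X.presheaf.map (eqToHom (hpre V).symm).op)).1
  haveI : IsIso (π.app V) := (ConcreteCategory.isIso_iff_bijective _).2 hbij
  have h : (π ∣_ V).appTop ≫ (π ⁻¹ᵁ V).topIso.hom = V.topIso.hom ≫ π.app V := by
    simp [-eqToHom_op, Scheme.Hom.app_eq_appLE, Scheme.Opens.topIso, Scheme.Hom.appLE_map, Scheme.Hom.map_appLE, Scheme.Hom.appLE_map', Scheme.Hom.map_appLE']
    exact (Scheme.Hom.appLE_map _ _ _).trans (Scheme.Hom.map_appLE _ _ _).symm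
  have h2 : (π ∣_ V).appTop = V.topIso.hom ≫ π.app V ≫ (π ⁻¹ᵁ V).topIso.inv := by
    rw [← Category.assoc, ← h, Category.assoc, Iso.hom_inv_id, Category.comp_id]
  rw [h2]
  infer_instance

end Groth.Agent.HomTangent
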