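import Groth.Agent.HomTangent.DefIso
import Groth.Agent.HilbLoc.Basic
import Groth.Prelude.Def_ArtFun6

/-!
# Deformations of morphisms as deformations of graphs
-/

set_option autoImplicit false
set_option linter.unusedSectionVars false
set_option backward.isDefEq.respectTransparency false
set_option maxHeartbeats 1000000
universe u

open CategoryTheory CategoryTheory.Limits AlgebraicGeometry ArtFun

namespace Groth.Agent.HomTangent

/-- The ideal of the base change of a closed immersion. -/
theorem ker_comap_of_isPullback {P Z X X' : Scheme.{u}} {a : P ⟶ Z} {c : P ⟶ X'} {i : Z ⟶ X} {g : X' ⟶ X}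
    [IsClosedImmersion i] (h : IsPullback c a g i) : i.ker.comap g = c.ker := by
  have h' : IsPullback c (a ≫ i.toImage) g i.ker.subschemeι :=
    h.of_iso (Iso.refl _) (Iso.refl _) (asIso i.toImage) (Iso.refl _)
      (by simp) (by simp) (by simp) (by simp)
  rw [Scheme.IdealSheafData.comap, ← h'.isoPullback_hom_fst, Scheme.Hom.ker_comp_of_isIso]

variable {k : Type u} [Field k] {X Y : Scheme.{u}} (x : X ⟶ Spec (CommRingCat.of k))
  (y : Y ⟶ Spec (CommRingCat.of k)) (f : X ⟶ Y) (hf : f ≫ y = x)

/-- `X ×_k Y` over `k`. -/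
noncomputable abbrev xy : pullback x y ⟶ Spec (CommRingCat.of k) := pullback.fst x y ≫ x

/-- The graph of `f`. -/
noncomputable def gr : X ⟶ pullback x y := pullback.lift (𝟙 X) f (by rw [Category.id_comp, hf])

theorem gr_fst : gr x y f hf ≫ pullback.fst x y = 𝟙 X := pullback.lift_fst _ _ _

theorem gr_snd : gr x y f hf ≫ pullback.snd x y = f := pullback.lift_snd _ _ _

theorem gr_xy : gr x y f hf ≫ xy x y = x := by rw [← Category.assoc, gr_fst, Category.id_comp]

theorem isClosedImmersion_gr [IsSeparated y] : IsClosedImmersion (gr x y f hf) := by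
  haveI : IsClosedImmersion (gr x y f hf ≫ pullback.fst x y) := by rw [gr_fst]; infer_instance
  exact IsClosedImmersion.of_comp (gr x y f hf) (pullback.fst x y)

/-- A morphism over `A` restricting to `f`. -/
def Mor (A : Art k k) : Type u :=
  {φ : Art.XA x A ⟶ Y // φ ≫ y = Art.XApr x A ≫ Art.specOver A ∧ Art.XAincl x A ≫ φ = f}

variable {x y f}

theorem Mor.fst_x {A : Art k k} (φ : Mor x y f A) : pullback.fst x (Art.specOver A) ≫ x = φ.1 ≫ y := by
  rw [φ.2.1]
  exact pullback.condition

/-- Pullback of morphisms. -/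
noncomputable def Mor.map {A B : Art k k} (g : A ⟶ B) (φ : Mor x y f A) : Mor x y f B :=
  ⟨Art.XAmap x g ≫ φ.1, by
    rw [Category.assoc, φ.2.1, ← Category.assoc, Art.XAmap_snd, Category.assoc, Art.specOver_comp], by
    rw [← Category.assoc, Art.XAincl_XAmap, φ.2.2]⟩

/-- The graph over `A`. -/
noncomputable def grA {A : Art k k} (φ : Mor x y f A) : Art.XA x A ⟶ Art.XA (xy x y) A :=
  pullback.lift (pullback.lift (pullback.fst x (Art.specOver A)) φ.1 φ.fst_x) (Art.XApr x A) (by
    rw [← Category.assoc, pullback.lift_fst]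
    exact pullback.condition)

variable (x y) in
/-- The projection. -/
noncomputable def proj (A : Art k k) : Art.XA (xy x y) A ⟶ Art.XA x A :=
  pullback.lift (pullback.fst (xy x y) (Art.specOver A) ≫ pullback.fst x y) (Art.XApr (xy x y) A) (by
    rw [Category.assoc]
    exact pullback.condition)

theorem grA_proj {A : Art k k} (φ : Mor x y f A) : grA φ ≫ proj x y A = 𝟙 _ := by
  refine pullback.hom_ext ?_ ?_
  · rw [Category.assoc, proj, pullback.lift_fst, ← Category.assoc, grA, pullback.lift_fst, pullback.lift_fst,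
      Category.id_comp]
  · rw [Category.assoc, proj, pullback.lift_snd, grA, pullback.lift_snd, Category.id_comp]

theorem grA_snd {A : Art k k} (φ : Mor x y f A) : grA φ ≫ Art.XApr (xy x y) A = Art.XApr x A :=
  pullback.lift_snd _ _ _

theorem grA_val {A : Art k k} (φ : Mor x y f A) :
    grA φ ≫ pullback.fst (xy x y) (Art.specOver A) ≫ pullback.snd x y = φ.1 := by
  rw [← Category.assoc, grA, pullback.lift_fst, pullback.lift_snd]

theorem isClosedImmersion_grA [IsSeparated y] {A : Art k k} (φ : Mor x y f A) : IsClosedImmersion (grA φ) := by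
  haveI : IsSeparated (pullback.fst x y) := MorphismProperty.pullback_fst (P := @IsSeparated) _ _ inferInstance
  haveI : IsSeparated (proj x y A) := by
    have sq : IsPullback (pullback.fst (xy x y) (Art.specOver A)) (proj x y A) (pullback.fst x y)
        (pullback.fst x (Art.specOver A)) := by
      refine IsPullback.of_bot ?_ (pullback.lift_fst _ _ _).symm (IsPullback.of_hasPullback x (Art.specOver A))
      rw [proj, pullback.lift_snd]
      exact IsPullback.of_hasPullback (xy x y) (Art.specOver A)
    exact MorphismProperty.of_isPullback (P := @IsSeparated) sq inferInstance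
  haveI : IsClosedImmersion (grA φ ≫ proj x y A) := by rw [grA_proj]; infer_instance
  exact IsClosedImmersion.of_comp (grA φ) (proj x y A)

theorem isPullback_grA_map {A B : Art k k} (g : A ⟶ B) (φ : Mor x y f A) :
    IsPullback (grA (φ.map g)) (Art.XAmap x g) (Art.XAmap (xy x y) g) (grA φ) := by
  refine (IsPullback.of_right ?_ ?_ (Art.isPullback_XAmap (xy x y) g).flip).flip.flip
  · rw [grA_snd, grA_snd]
    exact (Art.isPullback_XAmap x g).flip
  · refine pullback.hom_ext (pullback.hom_ext ?_ ?_) ?_
    · simp [grA, Mor.map]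
    · simp [grA, Mor.map]
    · rw [Category.assoc, Category.assoc, grA_snd, Art.XAmap_snd, Art.XAmap_snd, ← Category.assoc, grA_snd]

theorem isPullback_gr {A : Art k k} (φ : Mor x y f A) :
    IsPullback (gr x y f hf) (Art.XAincl x A) (Art.XAincl (xy x y) A) (grA φ) := by
  refine IsPullback.of_right ?_ ?_ (ArtFun.isPullback_XAincl (xy x y) A).flip
  · rw [gr_xy, grA_snd]
    exact (ArtFun.isPullback_XAincl x A).flip
  · refine pullback.hom_ext (pullback.hom_ext ?_ ?_) ?_
    · simp [grA, gr]
    · simp [grA, gr, φ.2.2]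
    · simp only [Category.assoc, grA_snd, Art.XAincl_snd]
      rw [← Category.assoc, gr_fst, Category.id_comp]

/-- The graph as a point of the local Hilbert functor. -/
noncomputable def graphObj [IsSeparated y] {A : Art k k} (φ : Mor x y f A) :
    (localHilb (pullback x y) (xy x y) (gr x y f hf).ker).obj A :=
  ⟨(grA φ).ker, by
    haveI := isClosedImmersion_grA φ
    change Flat ((grA φ).ker.subschemeι ≫ Art.XApr (xy x y) A)
    haveI : Flat x := DefGlue.flat_str x
    haveI : Flat (Art.XApr x A) := MorphismProperty.pullback_snd (P := @Flat) _ _ inferInstance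
    rw [← MorphismProperty.cancel_left_of_respectsIso @Flat (grA φ).toImage, ← Category.assoc]
    change Flat (((grA φ).toImage ≫ (grA φ).imageι) ≫ _)
    rw [Scheme.Hom.toImage_imageι, grA_snd]
    infer_instance, by
    haveI := isClosedImmersion_grA φ
    exact ker_comap_of_isPullback (isPullback_gr hf φ)⟩

theorem graphObj_map [IsSeparated y] {A B : Art k k} (g : A ⟶ B) (φ : Mor x y f A) :
    graphObj hf (φ.map g) = (localHilb (pullback x y) (xy x y) (gr x y f hf).ker).map g (graphObj hf φ) := by
  haveI := isClosedImmersion_grA φ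
  exact Subtype.ext (ker_comap_of_isPullback (isPullback_grA_map g φ)).symm

theorem graphObj_injective [IsSeparated y] (A : Art k k) :
    Function.Injective (graphObj hf (A := A) : Mor x y f A → _) := by
  intro φ φ' h
  haveI := isClosedImmersion_grA φ
  haveI := isClosedImmersion_grA φ'
  have hk : (grA φ).ker = (grA φ').ker := congrArg Subtype.val h
  have h1 := IsClosedImmersion.lift_fac (grA φ) (grA φ') hk.le
  have h2 : IsClosedImmersion.lift (grA φ) (grA φ') hk.le = 𝟙 _ := by
    have h3 := congrArg (· ≫ proj x y A) h1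
    simp only [Category.assoc, grA_proj, Category.comp_id] at h3
    exact h3
  rw [h2, Category.id_comp] at h1
  refine Subtype.ext ?_
  rw [← grA_val φ, ← grA_val φ', h1]

theorem graphObj_surjective [IsSeparated y] (A : Art k k) :
    Function.Surjective (graphObj hf (A := A) : Mor x y f A → _) := by
  intro I
  haveI := isClosedImmersion_gr x y f hf
  let e : X ≅ (gr x y f hf).ker.subscheme := asIso (gr x y f hf).toImage
  have he : e.hom ≫ (gr x y f hf).ker.subschemeι = gr x y f hf := Scheme.Hom.toImage_imageι _
  let O := objectOf I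
  have hOi : O.i ≫ I.1.subschemeι = (gr x y f hf).ker.subschemeι ≫ Art.XAincl (xy x y) A := by
    change (fibreMap I ≫ pullback.snd _ _) ≫ _ = _
    rw [Category.assoc, ← pullback.condition, ← Category.assoc, fibreMap_fst]
  let ξ : DefSch X x A :=
    { total := I.1.subscheme
      f := I.1.subschemeι ≫ Art.XApr (xy x y) A
      flat := I.2.1
      i := e.hom ≫ O.i
      isPullback := by
        refine O.isPullback.of_iso e.symm (Iso.refl _) (Iso.refl _) (Iso.refl _) ?_ ?_ ?_ ?_
        · change O.i ≫ 𝟙 _ = e.inv ≫ e.hom ≫ O.i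
          rw [Category.comp_id, e.inv_hom_id_assoc]
        · change ((gr x y f hf).ker.subschemeι ≫ xy x y) ≫ 𝟙 _ = e.inv ≫ x
          rw [Category.comp_id, Iso.eq_inv_comp, ← Category.assoc, he, gr_xy]
        · change (I.1.subschemeι ≫ Art.XApr (xy x y) A) ≫ 𝟙 _ = 𝟙 _ ≫ _
          rw [Category.comp_id, Category.id_comp]
        · change Art.specRes A ≫ 𝟙 _ = 𝟙 _ ≫ _
          rw [Category.comp_id, Category.id_comp] }
  let π : ξ.total ⟶ (HilbLoc.triv x A).total := I.1.subschemeι ≫ proj x y A
  have hi : ξ.i ≫ π = Art.XAincl x A := by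
    change (e.hom ≫ O.i) ≫ I.1.subschemeι ≫ proj x y A = _
    rw [Category.assoc, ← Category.assoc O.i, hOi, Category.assoc, ← Category.assoc e.hom, he]
    refine pullback.hom_ext ?_ ?_
    · simp only [proj, Category.assoc, pullback.lift_fst]
      rw [← Category.assoc (Art.XAincl _ _), Art.XAincl_fst, Category.id_comp, gr_fst]
      exact (Art.XAincl_fst x A).symm
    · simp only [proj, Category.assoc, pullback.lift_snd, Art.XAincl_snd]
      rw [← Category.assoc, gr_fst, Category.id_comp]
  have hπf : π ≫ Art.XApr x A = I.1.subschemeι ≫ Art.XApr (xy x y) A := by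
    rw [Category.assoc, proj, pullback.lift_snd]
  haveI : IsIso π := isIso_of_fibre ξ (HilbLoc.triv x A) π hπf hi
  let s : Art.XA x A ⟶ Art.XA (xy x y) A := inv π ≫ I.1.subschemeι
  have hs : s ≫ proj x y A = 𝟙 _ := by rw [Category.assoc]; exact IsIso.inv_hom_id π
  have hs2 : s ≫ Art.XApr (xy x y) A = Art.XApr x A := by rw [Category.assoc, ← hπf, IsIso.inv_hom_id_assoc]
  have hs1 : s ≫ pullback.fst (xy x y) (Art.specOver A) ≫ pullback.fst x y = pullback.fst x (Art.specOver A) := by
    have h := congrArg (· ≫ pullback.fst x (Art.specOver A)) hs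
    simpa [proj] using h
  let φ : Mor x y f A := ⟨s ≫ pullback.fst (xy x y) (Art.specOver A) ≫ pullback.snd x y, by
    refine Eq.trans ?_ pullback.condition
    rw [← hs1]
    simp only [Category.assoc]
    rw [← pullback.condition (f := x) (g := y)], by
    have h3 : Art.XAincl x A ≫ inv π = ξ.i := by rw [← hi, Category.assoc, IsIso.hom_inv_id, Category.comp_id]
    rw [Category.assoc, ← Category.assoc, h3, ← Category.assoc ξ.i]
    change ((e.hom ≫ O.i) ≫ I.1.subschemeι) ≫ _ = f
    rw [Category.assoc e.hom, hOi, ← Category.assoc e.hom, he, Category.assoc, ← Category.assoc (Art.XAincl _ _),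
      Art.XAincl_fst, Category.id_comp, gr_snd]⟩
  have hsφ : grA φ = s := by
    refine pullback.hom_ext (pullback.hom_ext ?_ ?_) ?_
    · rw [grA, pullback.lift_fst, pullback.lift_fst, Category.assoc, hs1]
    · rw [grA, pullback.lift_fst, pullback.lift_snd, Category.assoc]
    · rw [grA, pullback.lift_snd]
      exact hs2.symm
  refine ⟨φ, Subtype.ext ?_⟩
  change (grA φ).ker = I.1
  rw [hsφ, Scheme.Hom.ker_comp_of_isIso, Scheme.IdealSheafData.ker_subschemeι]

end Groth.Agent.HomTangent
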