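import Groth.Agent.HilbLoc.Rep.Point

/-!
# The tangent space at a rational point of an arbitrary local algebra
-/

set_option autoImplicit false
set_option linter.unusedSectionVars false
set_option backward.isDefEq.respectTransparency false
set_option maxHeartbeats 1000000
universe u v

open CategoryTheory ArtFun ArtFun.Art IsLocalRing

namespace Groth.Agent.HomTangent

variable {k : Type u} [Field k] {R : Type u} [CommRing R] [IsLocalRing R] [Algebra k R] (res : R →ₐ[k] k)

theorem mem_maximal_iff (r : R) : r ∈ maximalIdeal R ↔ res r = 0 := by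
  have h : maximalIdeal R = RingHom.ker res :=
    (IsLocalRing.eq_maximalIdeal (RingHom.ker_isMaximal_of_surjective res fun c =>
      ⟨algebraMap k R c, res.commutes c⟩)).symm
  rw [h, RingHom.mem_ker]

theorem sub_res_mem (r : R) : r - algebraMap k R (res r) ∈ maximalIdeal R := by
  rw [mem_maximal_iff res, map_sub, res.commutes, Algebra.algebraMap_self_apply, sub_self]

/-- The class of `r - res r`. -/
noncomputable def dcl (r : R) : CotangentSpace R :=
  (maximalIdeal R).toCotangent ⟨r - algebraMap k R (res r), sub_res_mem res r⟩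

theorem dcl_add (r s : R) : dcl res (r + s) = dcl res r + dcl res s := by
  rw [dcl, dcl, dcl, ← map_add]
  congr 1
  refine Subtype.ext ?_
  change r + s - algebraMap k R (res (r + s)) = r - _ + (s - _)
  rw [map_add, map_add]
  ring

theorem dcl_algebraMap (c : k) : dcl res (algebraMap k R c) = 0 := by
  rw [dcl, Ideal.toCotangent_eq_zero]
  simp [res.commutes]

theorem dcl_mul (r s : R) : dcl res (r * s) = res r • dcl res s + res s • dcl res r := by
  simp only [dcl, ← algebraMap_smul R (res r), ← algebraMap_smul R (res s), ← map_smul, ← map_add,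
    Ideal.toCotangent_eq, pow_two]
  change r * s - algebraMap k R (res (r * s)) - (algebraMap k R (res r) * (s - algebraMap k R (res s)) +
    algebraMap k R (res s) * (r - algebraMap k R (res r))) ∈ _
  have h := Ideal.mul_mem_mul (sub_res_mem res r) (sub_res_mem res s)
  convert h using 1
  rw [map_mul, map_mul]
  ring

theorem dcl_of_mem {r : R} (hr : r ∈ maximalIdeal R) : dcl res r = (maximalIdeal R).toCotangent ⟨r, hr⟩ := by
  rw [dcl]
  congr 1
  refine Subtype.ext ?_
  change r - algebraMap k R (res r) = r
  rw [(mem_maximal_iff res r).1 hr, map_zero, sub_zero]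

/-- The point of `h_R(k[ε])` of a functional. -/
noncomputable def point {M : Type u} [AddCommGroup M] [Module k M] [Module kᵐᵒᵖ M] [IsCentralScalar k M]
    (l : CotangentSpace R →ₗ[k] M) : R →ₐ[k] TrivSqZeroExt k M where
  toFun r := (res r, l (dcl res r))
  map_one' := TrivSqZeroExt.ext (map_one res) (by
    change l (dcl res 1) = 0
    rw [← map_one (algebraMap k R), dcl_algebraMap, map_zero])
  map_mul' r s := TrivSqZeroExt.ext (map_mul res r s) (by
    rw [TrivSqZeroExt.snd_mul, op_smul_eq_smul]
    change l (dcl res (r * s)) = res r • l (dcl res s) + res s • l (dcl res r)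
    rw [dcl_mul, map_add, map_smul, map_smul])
  map_zero' := TrivSqZeroExt.ext (map_zero res) (by
    change l (dcl res 0) = 0
    rw [← map_zero (algebraMap k R), dcl_algebraMap, map_zero])
  map_add' r s := TrivSqZeroExt.ext (map_add res r s) (by
    change l (dcl res (r + s)) = l (dcl res r) + l (dcl res s)
    rw [dcl_add, map_add])
  commutes' c := TrivSqZeroExt.ext (res.commutes c) (by
    change l (dcl res (algebraMap k R c)) = 0
    rw [dcl_algebraMap, map_zero])

theorem exists_functional (χ : HomSet R res (dual k k)) :
    ∃ l : CotangentSpace R →ₗ[k] k, point res l = χ.1 := by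
  have hfst : ∀ r, TrivSqZeroExt.fst (χ.1 r : DualNumber k) = res r := fun r => DFunLike.congr_fun χ.2 r
  let d : maximalIdeal R →ₗ[k] k :=
    { toFun := fun r => TrivSqZeroExt.snd (χ.1 r : DualNumber k)
      map_add' := fun r s => by rw [Submodule.coe_add, map_add]; rfl
      map_smul' := fun c r => by
        rw [Submodule.coe_smul_of_tower, map_smul]
        rfl }
  have hd : ((maximalIdeal R) • ⊤ : Submodule R (maximalIdeal R)).restrictScalars k ≤ LinearMap.ker d := by
    intro z hz
    have hz' : z ∈ (maximalIdeal R) • (⊤ : Submodule R (maximalIdeal R)) := hz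
    refine Submodule.smul_induction_on hz' (fun a ha b _ => LinearMap.mem_ker.2 ?_) fun a b ha hb => add_mem ha hb
    change TrivSqZeroExt.snd (χ.1 (a * (b : R)) : DualNumber k) = 0
    rw [map_mul]
    refine (TrivSqZeroExt.snd_mul (χ.1 a : DualNumber k) (χ.1 (b : R) : DualNumber k)).trans ?_
    rw [hfst, hfst, (mem_maximal_iff res a).1 ha, (mem_maximal_iff res b).1 b.2]
    simp
  let l : CotangentSpace R →ₗ[k] k :=
    (((maximalIdeal R) • ⊤ : Submodule R (maximalIdeal R)).restrictScalars k).liftQ d hd ∘ₗ
      (Submodule.Quotient.restrictScalarsEquiv k _).symm.toLinearMap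
  have hl : ∀ r (hr : r ∈ maximalIdeal R), l ((maximalIdeal R).toCotangent ⟨r, hr⟩) =
      TrivSqZeroExt.snd (χ.1 r : DualNumber k) := fun r hr => rfl
  refine ⟨l, AlgHom.ext fun r => TrivSqZeroExt.ext (hfst r).symm ?_⟩
  change l ((maximalIdeal R).toCotangent _) = TrivSqZeroExt.snd (χ.1 r : DualNumber k)
  rw [hl, map_sub, AlgHom.commutes]
  exact (TrivSqZeroExt.snd_sub (χ.1 r : DualNumber k) (algebraMap k (DualNumber k) (res r))).trans (sub_zero _)

variable {res} {F : Art k k ⥤ Type v}

theorem nonempty_tangent_linearEquiv (ξ : Family R res F) (hξ : Function.Bijective (ξ.app (dual k k)))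
    [TangentStr F] : Nonempty (Module.Dual k (CotangentSpace R) ≃ₗ[k] TangentSpace F) := by
  let P : Module.Dual k (CotangentSpace R) → HomSet R res (dual k k) := fun l =>
    ⟨point res l, AlgHom.ext fun _ => rfl⟩
  have hP : Function.Bijective P := by
    refine ⟨fun l l' h => LinearMap.ext fun z => ?_, fun χ => (exists_functional res χ).imp fun l hl => Subtype.ext hl⟩
    obtain ⟨⟨r, hr⟩, rfl⟩ := (maximalIdeal R).toCotangent_surjective z
    have h' : TrivSqZeroExt.snd (point res l r) = TrivSqZeroExt.snd (point res l' r) :=
      congrArg TrivSqZeroExt.snd (DFunLike.congr_fun (congrArg Subtype.val h) r)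
    change l (dcl res r) = l' (dcl res r) at h'
    rwa [dcl_of_mem res hr] at h'
  let L : Module.Dual k (CotangentSpace R) →ₗ[k] TangentSpace F :=
    { toFun := fun l => TangentSpace.mk (F := F) (ξ.app _ (P l))
      map_add' := fun l l' => by
        let c : HomSet R res (dual2 k k) := ⟨point res (l.prod l'), AlgHom.ext fun _ => rfl⟩
        have e₀ : P (l + l') = HomSet.map plus c := Subtype.ext (AlgHom.ext fun _ => rfl)
        have e₁ : P l = HomSet.map pr₁ c := Subtype.ext (AlgHom.ext fun _ => rfl)
        have e₂ : P l' = HomSet.map pr₂ c := Subtype.ext (AlgHom.ext fun _ => rfl)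
        rw [e₀, e₁, e₂, ξ.natural, ξ.natural, ξ.natural]
        exact (TangentStr.add_eq (ξ.app _ c)).symm
      map_smul' := fun a l => by
        have e₀ : P (a • l) = HomSet.map (scale a) (P l) := Subtype.ext (AlgHom.ext fun _ => rfl)
        rw [e₀, ξ.natural, RingHom.id_apply]
        exact (TangentStr.smul_eq a _).symm }
  exact ⟨LinearEquiv.ofBijective L (hξ.comp hP)⟩

theorem finrank_cotangent (ξ : Family R res F) (hξ : Function.Bijective (ξ.app (dual k k))) [TangentStr F] :
    Module.finrank (ResidueField R) (CotangentSpace R) = Module.finrank k (TangentSpace F) := by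
  obtain ⟨e⟩ := nonempty_tangent_linearEquiv ξ hξ
  rw [← e.finrank_eq, Subspace.dual_finrank_eq]
  haveI : IsScalarTower k (ResidueField R) (CotangentSpace R) := IsScalarTower.of_algebraMap_smul fun c z => by
    rw [IsScalarTower.algebraMap_apply k R (ResidueField R), algebraMap_smul, algebraMap_smul]
  have hb : Function.Bijective (algebraMap k (ResidueField R)) := by
    refine ⟨(algebraMap k (ResidueField R)).injective, fun z => ?_⟩
    obtain ⟨r, rfl⟩ := residue_surjective (R := R) z
    refine ⟨res r, ?_⟩
    rw [IsScalarTower.algebraMap_apply k R (ResidueField R)]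
    exact (sub_eq_zero.1 (((map_sub (residue R) _ _).symm.trans ((residue_eq_zero_iff _).2 (sub_res_mem res r))))).symm
  have h1 : Module.finrank k (ResidueField R) = 1 := by
    rw [← (LinearEquiv.ofBijective (Algebra.linearMap k (ResidueField R)) hb).finrank_eq, Module.finrank_self]
  rw [← Module.finrank_mul_finrank k (ResidueField R) (CotangentSpace R), h1, one_mul]

end Groth.Agent.HomTangent
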